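import Groth.Agent.VarietyLib.CompletionDimOne
import Groth.Agent.S9675
import Groth.Agent.S9676
import Groth.Agent.CAlgH.NagataFiniteType
import Groth.Agent.NormalizationLib.Finite
import Groth.Agent.CurveLib.ProjLine
import Mathlib.AlgebraicGeometry.ZariskisMainTheorem

/-!
# Completions of reduced curves with discrete valuation rings at the boundary
-/

set_option autoImplicit false
set_option linter.style.haveILetI false
set_option backward.isDefEq.respectTransparency.types false

universe u

open CategoryTheory AlgebraicGeometry TopologicalSpace Order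

namespace Groth.Agent.VarCurve23

variable {k : Type u} [Field k]

theorem isNagata_affine {Y : Scheme.{u}} (p : Y ⟶ Spec (CommRingCat.of k)) [LocallyOfFiniteType p]
    (U : Y.affineOpens) : CAlg.IsNagata Γ(Y, U) := by
  let φ := p.appLE ⊤ U.1 le_top
  have hft : φ.hom.FiniteType := p.finiteType_appLE (U := ⊤) (isAffineOpen_top _) U.2 le_top
  let ψ : k →+* Γ(Y, U) := φ.hom.comp (Scheme.ΓSpecIso (CommRingCat.of k)).inv.hom
  letI : Algebra k Γ(Y, U) := ψ.toAlgebra
  haveI : Algebra.FiniteType k Γ(Y, U) := RingHom.finiteType_algebraMap.1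
    (hft.comp (RingHom.FiniteType.of_surjective _
      (Scheme.ΓSpecIso (CommRingCat.of k)).commRingCatIsoToRingEquiv.symm.surjective))
  exact CAlgH.isNagata_of_finiteType (NormalizationLib.isNagata_field k) Γ(Y, U)

theorem ringKrullDim_stalk_eq_one {Y : Scheme.{u}} (hdim : topologicalKrullDim Y ≤ 1) {η y : Y} (h : η ⤳ y)
    (hne : η ≠ y) : ringKrullDim (Y.presheaf.stalk y) = 1 := by
  rw [ringKrullDim_stalk_eq_coheight]
  rw [DimLib.topologicalKrullDim_eq_krullDim] at hdim
  have h1 : coheight y ≤ 1 := by exact_mod_cast (coheight_le_krullDim y).trans hdim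
  have h2 : coheight y ≠ 0 := fun h0 => by
    have hmax := coheight_eq_zero.1 h0
    exact hne (h.antisymm (hmax (show y ≤ η from h))).eq
  have : coheight y = 1 := le_antisymm h1 (ENat.one_le_iff_ne_zero.2 h2)
  rw [this]; rfl

/-- A reduced separated curve has a projective completion with DVRs at the finitely many added points. -/
theorem exists_regular_completion {X : Scheme.{u}} [IsReduced X] (f : X ⟶ Spec (CommRingCat.of k)) [IsSeparated f]
    [LocallyOfFiniteType f] [QuasiCompact f] (hdim : topologicalKrullDim X ≤ 1) :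
    ∃ (d : ℕ) (Y : Scheme.{u}) (c : Y ⟶ CohB1.ProjSpace d k) (j : X ⟶ Y), IsClosedImmersion c ∧ IsOpenImmersion j ∧
      j ≫ c ≫ CohB1.ProjSpace.toSpec d k = f ∧ Dense (Set.range j.base) ∧ IsSchemeTheoreticallyDominant j ∧
      (Set.range j.base)ᶜ.Finite ∧ ∀ y ∈ (Set.range j.base)ᶜ, IsClosed ({y} : Set Y) ∧
        ∃ _ : IsDomain (Y.presheaf.stalk y), IsDiscreteValuationRing (Y.presheaf.stalk y) := by
  obtain ⟨d₀, Y₀, c₀, j₀, hc₀, hj₀, hfac₀, -⟩ := VarietyLib.exists_projective_completion k f hdim
  haveI := hc₀; haveI := hj₀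
  haveI : IsProper (CohB1.ProjSpace.toSpec d₀ k) := CurveLib.isProper_projSpace k d₀
  let p₀ := c₀ ≫ CohB1.ProjSpace.toSpec d₀ k
  haveI : LocallyOfFiniteType p₀ := inferInstanceAs (LocallyOfFiniteType (c₀ ≫ CohB1.ProjSpace.toSpec d₀ k))
  haveI : IsProper p₀ := inferInstanceAs (IsProper (c₀ ≫ CohB1.ProjSpace.toSpec d₀ k))
  haveI : IsLocallyNoetherian Y₀ := LocallyOfFiniteType.isLocallyNoetherian p₀
  haveI : QuasiCompact j₀ := inferInstance
  haveI : IsFinite j₀.fromNormalization := S9675.result j₀ (isNagata_affine p₀)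
  let Y := j₀.normalization
  let p : Y ⟶ Spec (CommRingCat.of k) := j₀.fromNormalization ≫ p₀
  let j : X ⟶ Y := j₀.toNormalization
  haveI : IsProper p := inferInstanceAs (IsProper (j₀.fromNormalization ≫ p₀))
  haveI : IsOpenImmersion j := inferInstanceAs (IsOpenImmersion j₀.toNormalization)
  have hfac : j ≫ p = f := by
    show j₀.toNormalization ≫ j₀.fromNormalization ≫ p₀ = f
    rw [← Category.assoc, Scheme.Hom.toNormalization_fromNormalization]
    exact hfac₀
  letI : Y.Over (Spec (CommRingCat.of k)) := ⟨p⟩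
  haveI : IsProper (Y ↘ Spec (CommRingCat.of k)) := inferInstanceAs (IsProper p)
  haveI : QuasiCompact p := inferInstance
  haveI := QuasiCompact.compactSpace_of_compactSpace p
  haveI : IsLocallyNoetherian Y := LocallyOfFiniteType.isLocallyNoetherian p
  haveI : IsNoetherian Y := {}
  have hdense : Dense (Set.range j.base) := j₀.toNormalization.denseRange
  have hopen : IsOpen (Set.range j.base) := j.isOpenEmbedding.isOpen_range
  have hmem : ∀ η : Y, (∀ z, z ⤳ η → η = z) → η ∈ Set.range j.base := by
    intro η hmax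
    refine Rat20Lib.mem_of_dense (fun x => ⟨Set.univ, isOpen_univ, trivial,
      NoetherianSpace.finite_irreducibleComponents.subset fun Z hZ => hZ.1⟩) hopen hdense ?_
    obtain ⟨θ, hθ⟩ := QuasiSober.sober (S := irreducibleComponent η)
      isIrreducible_irreducibleComponent isClosed_irreducibleComponent
    have e : η = θ := hmax θ (hθ.specializes mem_irreducibleComponent)
    rw [e, hθ.def]
    exact irreducibleComponent_mem_irreducibleComponents η
  have hdimY : topologicalKrullDim Y ≤ 1 := by
    refine DimLib.topologicalKrullDim_le_of_forall_maximal p 1 fun η hmax => ?_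
    obtain ⟨x, rfl⟩ := hmem η hmax
    rw [← DimLib.ptDim_comp_preimmersion p j x, hfac]
    exact (DimLib.ptDim_le_topologicalKrullDim f x).trans hdim
  have hnonmax : ∀ y ∈ (Set.range j.base)ᶜ, ∃ η, η ⤳ y ∧ η ≠ y := fun y hy => by
    obtain ⟨η, hη, hmax⟩ := DimLib.exists_maximal_specializes y
    exact ⟨η, hη, fun e => hy (e ▸ hmem η hmax)⟩
  have hcl : ∀ y ∈ (Set.range j.base)ᶜ, IsClosed ({y} : Set Y) := fun y hy =>
    let ⟨η, hη, hne⟩ := hnonmax y hy
    VarietyLib.isClosed_of_specializes_ne hdimY hη hne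
  obtain ⟨d, c, hc, hcp⟩ := VarietyLib.exists_closedImmersion_projSpace_dim_le_one k hdimY
  refine ⟨d, Y, c, j, hc, inferInstance, by rw [hcp]; exact hfac, hdense, ⟨j₀.ker_toNormalization⟩,
    VarietyLib.finite_of_forall_isClosed hopen.isClosed_compl hcl, fun y hy => ⟨hcl y hy, ?_⟩⟩
  obtain ⟨η, hη, hne⟩ := hnonmax y hy
  exact S9676.result j₀ (isNagata_affine p₀) y (ringKrullDim_stalk_eq_one hdimY hη hne) hy

end Groth.Agent.VarCurve23
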